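import Groth.Agent.Lib.GeomRedOpen27.Fibre
import Groth.Agent.Lib.GeomRed18.Scheme
import Groth.Agent.S1301

/-!
# Constructibility of the geometrically reduced fibre locus
-/

universe u

set_option backward.isDefEq.respectTransparency.types false

open CategoryTheory CategoryTheory.Limits AlgebraicGeometry AlgSp Opposite Topology
open Groth.Agent.AlgSpace Groth.Agent.AlgSpDecent

namespace Groth.Agent.GeomRedOpen27

open Groth.Agent

theorem geometricallyReduced_fibre_iff {A B : Scheme.{u}} (h : A ⟶ B) (b : B) :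
    GeometricallyReduced (h.fiberToSpecResidueField b) ↔ ∀ a, h a = b → GRPt h a := by
  letI : (h.fiber b).Over (Spec (CommRingCat.of (IsLocalRing.ResidueField (B.presheaf.stalk b)))) :=
    ⟨h.fiberToSpecResidueField b⟩
  refine (GeomRed.geometricallyReduced_iff_forall (X := h.fiber b)
    (k := IsLocalRing.ResidueField (B.presheaf.stalk b))).trans ⟨fun H a ha => ?_, fun H z => ?_⟩
  · subst ha
    exact H (h.asFiber a)
  · exact (grPt_iff h b z).2 (H _ (RelCyc15.fiberι_apply h z))

variable {S : Scheme.{u}}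

theorem isQuasiCompactSp_yon (V : Over S) [IsAffine V.left] : IsQuasiCompactSp ((yon S).obj V) :=
  ⟨V, 𝟙 _, repWith_id _ V, repWith_id _ V, inferInstanceAs (CompactSpace ↥V.left)⟩

theorem isConstructible_locus {X Y : Space S} (f : X ⟶ Y) (hqc : IsQuasiCompactMor f.hom)
    (hfp : LocP @LocallyOfFinitePresentation f.hom) (V : Over S) [IsAffine V.left]
    (b : (yon S).obj V ⟶ Y.obj) (hbe : RepWith @Etale b) :
    IsConstructible ((Points.ofPt b) ⁻¹' {y : Points Y.obj | ∀ (k : FieldPt Y.obj), Points.mk k = y →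
        ∀ (k' : Type u) [Field k'] (φ : k.K →+* k') (Xk' : Sp S) (a : Xk' ⟶ X.obj)
          (b : Xk' ⟶ (yon S).obj (Over.mk (Spec.map (CommRingCat.ofHom φ) ≫ k.str))),
          IsPullback a b f.hom ((yon S).map (Over.homMk (Spec.map (CommRingCat.ofHom φ)) rfl :
            Over.mk (Spec.map (CommRingCat.ofHom φ) ≫ k.str) ⟶ k.pt) ≫ k.toHom) →
          EtaleLocally (fun U => IsReduced U) Xk'}) := by
  have sqP : IsPullback (pullback.fst f.hom b) (pullback.snd f.hom b) f.hom b := IsPullback.of_hasPullback _ _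
  obtain ⟨U, r, hre, hrs, hU⟩ := hqc (IsAlgSpace.yon_obj V) (isQuasiCompactSp_yon V) b _ _ sqP
  haveI : CompactSpace U.left := hU
  obtain ⟨h, hh⟩ := (yon S).map_surjective (r ≫ pullback.snd f.hom b)
  have hae : RepWith @Etale (r ≫ pullback.fst f.hom b) := repWith_comp hre (repWith_of_isPullback sqP.flip hbe)
  have w : (r ≫ pullback.fst f.hom b) ≫ f.hom = (yon S).map h ≫ b := by
    rw [Category.assoc, sqP.w, hh, Category.assoc]
  haveI : LocallyOfFinitePresentation h.left := hfp _ b h hae hbe w
  haveI : QuasiCompact h.left :=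
    (HasAffineProperty.iff_of_isAffine (P := @QuasiCompact)).2 (inferInstanceAs (CompactSpace U.left))
  convert (S1301.result h.left).isConstructible using 1
  ext v
  rw [Set.mem_preimage, Set.mem_setOf_eq, fibre_iff sqP hre hrs hh.symm v, Set.mem_setOf_eq,
    geometricallyReduced_fibre_iff]

end Groth.Agent.GeomRedOpen27
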