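import Groth.Agent.Lib.GeomRed15.FibreRed
import Groth.Agent.Lib.AlgSpace.Proper
import Groth.Agent.Lib.AlgSpace.LocP
import Groth.Agent.S2549
import Groth.Agent.Lib.RelCyc15.PerfectPull
import Groth.Agent.Lib.AlgSpDecent.Components

/-!
# Geometrically reduced fibres of proper flat morphisms of algebraic spaces

On an atlas `r : h_U ⟶ X ×_Y V` over an etale chart `b : h_V ⟶ Y`, the fibre at `b v` is geometrically reduced exactly
when the scheme fibre `U_v` is; the bad points of `U` are closed and saturated, so their image in `V` is closed.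
-/

universe u

set_option backward.isDefEq.respectTransparency.types false

open CategoryTheory CategoryTheory.Limits AlgebraicGeometry AlgSp Opposite Topology
open Groth.Agent.AlgSpace Groth.Agent.AlgSpDecent

namespace Groth.Agent.GeomRedOpen27

open Groth.Agent

/-- The fibre through `a` is geometrically reduced at `a`. -/
def GRPt {A B : Scheme.{u}} (h : A ⟶ B) (a : A) : Prop :=
  FBase.IsGeomReducedAt (h.fiberToSpecResidueField (h a)) (h.asFiber a)

theorem grPt_iff {A B : Scheme.{u}} (h : A ⟶ B) (b : B) (z : h.fiber b) :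
    FBase.IsGeomReducedAt (h.fiberToSpecResidueField b) z ↔ GRPt h (h.fiberι b z) := by
  have key : ∀ (b' : B) (z' : h.fiber b'), h.fiberι b z = h.fiberι b' z' → b' = b →
      (FBase.IsGeomReducedAt (h.fiberToSpecResidueField b) z ↔
        FBase.IsGeomReducedAt (h.fiberToSpecResidueField b') z') := by
    rintro _ z' e rfl
    rw [(h.fiberι _).isEmbedding.injective e]
  exact key _ (h.asFiber _) (h.fiberι_asFiber _).symm (RelCyc15.fiberι_apply h z)

/-- Geometric reducedness of the fibre is insensitive to etale maps on the source. -/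
theorem grPt_etale_comp {A' A B : Scheme.{u}} (e : A' ⟶ A) (h : A ⟶ B) [Etale e] (a' : A') :
    GRPt (e ≫ h) a' ↔ GRPt h (e a') := by
  let s := (e ≫ h) a'
  let pr : (e ≫ h).fiber s ⟶ h.fiber s := pullback.lift ((e ≫ h).fiberι s ≫ e) ((e ≫ h).fiberToSpecResidueField s)
    (by rw [Category.assoc]; exact (e ≫ h).fiber_fac s)
  have hfac : pr ≫ h.fiberToSpecResidueField s = (e ≫ h).fiberToSpecResidueField s := pullback.lift_snd _ _ _
  have hpr : IsPullback ((e ≫ h).fiberι s) pr e (h.fiberι s) :=
    IsPullback.of_bot (h₂₁ := h.fiberι s) (by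
      have hb : IsPullback ((e ≫ h).fiberι s) ((e ≫ h).fiberToSpecResidueField s) (e ≫ h)
          (B.fromSpecResidueField s) := IsPullback.of_hasPullback _ _
      rw [← hfac] at hb
      exact hb)
      (pullback.lift_fst _ _ _).symm (IsPullback.of_hasPullback h (B.fromSpecResidueField s))
  haveI : Etale pr := MorphismProperty.of_isPullback hpr inferInstance
  have hz : pr ((e ≫ h).asFiber a') = h.asFiber (e a') := (h.fiberι s).isEmbedding.injective (by
    rw [← Scheme.Hom.comp_apply, ← hpr.w, Scheme.Hom.comp_apply, Scheme.Hom.fiberι_asFiber]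
    exact (h.fiberι_asFiber (e a')).symm)
  have := GeomRed15.iff_of_etale (h.fiberToSpecResidueField s) pr ((e ≫ h).asFiber a')
  show FBase.IsGeomReducedAt ((e ≫ h).fiberToSpecResidueField s) _ ↔
    FBase.IsGeomReducedAt (h.fiberToSpecResidueField s) (h.asFiber (e a'))
  rw [← hfac, ← hz]
  exact this

variable {S : Scheme.{u}} {X Y : Sp S}

theorem isPullback_congr {A B C D : Sp S} {p : A ⟶ B} {q : A ⟶ C} {f : B ⟶ D} {g g' : C ⟶ D}
    (h : IsPullback p q f g) (e : g = g') : IsPullback p q f g' := e ▸ h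

/-- The chart of a fibre product with a scheme over `V`. -/
theorem exists_chart_pullback {f : X ⟶ Y} {U V : Over S} {b : (yon S).obj V ⟶ Y} {P : Sp S} {p₁ : P ⟶ X}
    {p₂ : P ⟶ (yon S).obj V} (sqP : IsPullback p₁ p₂ f b) {r : (yon S).obj U ⟶ P} (hre : RepWith @Etale r)
    (hrs : RepWith @Surjective r) {h : U ⟶ V} (hh : r ≫ p₂ = (yon S).map h) {W : Over S} (l : W ⟶ V) {Xw : Sp S}
    {a' : Xw ⟶ X} {c : Xw ⟶ (yon S).obj W} (sqc : IsPullback a' c f ((yon S).map l ≫ b)) :
    ∃ p : (yon S).obj (pullback h l) ⟶ Xw, RepWith @Etale p ∧ RepWith @Surjective p := by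
  let ν : Xw ⟶ P := sqP.lift a' (c ≫ (yon S).map l) (by rw [Category.assoc]; exact sqc.w)
  have sqν : IsPullback ν c p₂ ((yon S).map l) :=
    IsPullback.of_right (by rw [sqP.lift_fst]; exact sqc) (sqP.lift_snd _ _ _) sqP
  have sqT : IsPullback ((yon S).map (pullback.fst h l)) ((yon S).map (pullback.snd h l))
      (r ≫ p₂) ((yon S).map l) := by
    rw [hh]
    exact (IsPullback.of_hasPullback h l).map (yon S)
  let p : (yon S).obj (pullback h l) ⟶ Xw := sqν.lift ((yon S).map (pullback.fst h l) ≫ r)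
    ((yon S).map (pullback.snd h l)) (by rw [Category.assoc]; exact sqT.w)
  have sqp : IsPullback ((yon S).map (pullback.fst h l)) p r ν :=
    IsPullback.of_bot (by rw [sqν.lift_snd]; exact sqT) (sqν.lift_fst _ _ _).symm sqν
  exact ⟨p, repWith_of_isPullback sqp hre, repWith_of_isPullback sqp hrs⟩

/-- The scheme fibre after a field extension, as the underlying scheme of the chart. -/
theorem isReduced_chart_iff {U V : Over S} (h : U ⟶ V) (v : V.left) (K : Type u) [Field K]
    [Algebra (IsLocalRing.ResidueField (V.left.presheaf.stalk v)) K] {W : Over S} (l : W ⟶ V) (e : Spec (CommRingCat.of K) ≅ W.left)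
    (hl : e.hom ≫ l.left = Spec.map (CommRingCat.ofHom (algebraMap (IsLocalRing.ResidueField (V.left.presheaf.stalk v)) K)) ≫ V.left.fromSpecResidueField v) :
    AlgebraicGeometry.IsReduced (pullback h l).left ↔
      AlgebraicGeometry.IsReduced (FBase.bc (h.left.fiberToSpecResidueField v) K) := by
  have sq₁ : IsPullback (pullback.fst h l).left (pullback.snd h l).left h.left l.left :=
    (IsPullback.of_hasPullback h l).map (Over.forget S)
  have sq₂ : IsPullback (FBase.bcπ (h.left.fiberToSpecResidueField v) K ≫ h.left.fiberι v)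
      (FBase.bcStr (h.left.fiberToSpecResidueField v) K ≫ e.hom) h.left l.left := by
    have h1 : IsPullback (FBase.bcπ (h.left.fiberToSpecResidueField v) K ≫ h.left.fiberι v)
        (FBase.bcStr (h.left.fiberToSpecResidueField v) K) h.left (e.hom ≫ l.left) := by
      rw [hl]
      exact (IsPullback.of_hasPullback _ _).paste_horiz (IsPullback.of_hasPullback h.left (V.left.fromSpecResidueField v))
    exact IsPullback.of_iso h1 (Iso.refl _) (Iso.refl _) e (Iso.refl _) (by simp) (by simp) (by simp) (by simp)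
  let i := sq₁.isoIsPullback _ _ sq₂
  exact ⟨fun _ => isReduced_of_isOpenImmersion i.inv, fun _ => isReduced_of_isOpenImmersion i.hom⟩

/-- Geometric reducedness of the fibre over `b v`. -/
theorem fibre_iff {X Y : Space S} {f : X ⟶ Y} {U V : Over S} {b : (yon S).obj V ⟶ Y.obj} {P : Sp S} {p₁ : P ⟶ X.obj}
    {p₂ : P ⟶ (yon S).obj V} (sqP : IsPullback p₁ p₂ f.hom b) {r : (yon S).obj U ⟶ P} (hre : RepWith @Etale r)
    (hrs : RepWith @Surjective r) {h : U ⟶ V} (hh : r ≫ p₂ = (yon S).map h) (v : V.left) :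
    (∀ (k : FieldPt Y.obj), Points.mk k = Points.ofPt b v →
        ∀ (k' : Type u) [Field k'] (φ : k.K →+* k') (Xk' : Sp S) (a : Xk' ⟶ X.obj)
          (b : Xk' ⟶ (yon S).obj (Over.mk (Spec.map (CommRingCat.ofHom φ) ≫ k.str))),
          IsPullback a b f.hom ((yon S).map (Over.homMk (Spec.map (CommRingCat.ofHom φ)) rfl :
            Over.mk (Spec.map (CommRingCat.ofHom φ) ≫ k.str) ⟶ k.pt) ≫ k.toHom) →
          EtaleLocally (fun U => IsReduced U) Xk') ↔
      ∀ u, h.left u = v → GRPt h.left u := by
  let res : Over.mk (V.left.fromSpecResidueField v ≫ V.hom) ⟶ V := Over.homMk (V.left.fromSpecResidueField v) rfl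
  have hk : (FieldPt.ofPt b v).toHom = (yon S).map res ≫ b := Groth.Agent.AlgSpDecent.toHom_ofPt b v
  have hl : ∀ (K : Type u) [Field K] (φ : V.left.residueField v →+* K),
      (yon S).map (Over.homMk (Spec.map (CommRingCat.ofHom φ)) rfl :
        Over.mk (Spec.map (CommRingCat.ofHom φ) ≫ V.left.fromSpecResidueField v ≫ V.hom) ⟶
          Over.mk (V.left.fromSpecResidueField v ≫ V.hom)) ≫ (FieldPt.ofPt b v).toHom =
      (yon S).map ((Over.homMk (Spec.map (CommRingCat.ofHom φ)) rfl :
        Over.mk (Spec.map (CommRingCat.ofHom φ) ≫ V.left.fromSpecResidueField v ≫ V.hom) ⟶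
          Over.mk (V.left.fromSpecResidueField v ≫ V.hom)) ≫ res) ≫ b := fun K _ φ => by
    rw [hk, Functor.map_comp, Category.assoc]
  constructor
  · intro H u hu
    subst hu
    let Ω := AlgebraicClosure (IsLocalRing.ResidueField (V.left.presheaf.stalk (h.left u)))
    let φ : V.left.residueField (h.left u) →+* Ω := algebraMap (IsLocalRing.ResidueField (V.left.presheaf.stalk (h.left u))) Ω
    have sq := IsPullback.of_hasPullback f.hom ((yon S).map (Over.homMk (Spec.map (CommRingCat.ofHom φ)) rfl :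
            Over.mk (Spec.map (CommRingCat.ofHom φ) ≫ (FieldPt.ofPt b (h.left u)).str) ⟶ (FieldPt.ofPt b (h.left u)).pt) ≫
              (FieldPt.ofPt b (h.left u)).toHom)
    have hred := H (FieldPt.ofPt b (h.left u)) rfl Ω φ _ _ _ sq
    obtain ⟨p, hpe, hps⟩ := exists_chart_pullback sqP hre hrs hh
      ((Over.homMk (Spec.map (CommRingCat.ofHom φ)) rfl :
        Over.mk (Spec.map (CommRingCat.ofHom φ) ≫ V.left.fromSpecResidueField (h.left u) ≫ V.hom) ⟶
          Over.mk (V.left.fromSpecResidueField (h.left u) ≫ V.hom)) ≫ res)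
      (by rw [← hl Ω φ]; exact sq)
    have hT := AlgSpDescent.prop_of_etale_chart AlgSpDescent.isReduced_up AlgSpDescent.isReduced_down hred hpe
    haveI := (isReduced_chart_iff h (h.left u) Ω _ (Iso.refl _) (Category.id_comp _)).1 hT
    obtain ⟨z, hz⟩ := GeomRed15.bcπ_surjective Ω (h.left.fiberToSpecResidueField (h.left u)) (h.left.asFiber u)
    exact GeomRed15.of_perfect _ _ z hz inferInstance
  · intro H
    refine ((GeomRed15.geomReducedFibre_tfae f (Points.ofPt b v)).out 0 1 rfl rfl).1 ?_
    refine ⟨FieldPt.ofPt b v, rfl, fun K _ φ Xk' a c sq => ?_⟩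
    letI : Algebra (IsLocalRing.ResidueField (V.left.presheaf.stalk v)) K := RingHom.toAlgebra φ
    obtain ⟨p, hpe, hps⟩ := exists_chart_pullback sqP hre hrs hh
      ((Over.homMk (Spec.map (CommRingCat.ofHom φ)) rfl :
        Over.mk (Spec.map (CommRingCat.ofHom φ) ≫ V.left.fromSpecResidueField v ≫ V.hom) ⟶
          Over.mk (V.left.fromSpecResidueField v ≫ V.hom)) ≫ res)
      (isPullback_congr sq (hl K φ))
    refine ⟨_, p, hpe, hps, (isReduced_chart_iff h v K _ (Iso.refl _) (Category.id_comp _)).2 ?_⟩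
    refine GeomRed15.isReduced_bc_iff _ K fun z => ?_
    rw [grPt_iff]
    exact H _ (RelCyc15.fiberι_apply h.left z)

/-- The locus of geometrically reduced fibres of a flat universally closed morphism is open. -/
theorem isOpen_locus {X Y : Space S} (f : X ⟶ Y) (hfl : LocP @Flat f.hom)
    (hfp : LocP @LocallyOfFinitePresentation f.hom) (huc : IsUnivClosedMor f.hom) :
    IsOpen {y : Points Y.obj | ∀ (k : FieldPt Y.obj), Points.mk k = y →
        ∀ (k' : Type u) [Field k'] (φ : k.K →+* k') (Xk' : Sp S) (a : Xk' ⟶ X.obj)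
          (b : Xk' ⟶ (yon S).obj (Over.mk (Spec.map (CommRingCat.ofHom φ) ≫ k.str))),
          IsPullback a b f.hom ((yon S).map (Over.homMk (Spec.map (CommRingCat.ofHom φ)) rfl :
            Over.mk (Spec.map (CommRingCat.ofHom φ) ≫ k.str) ⟶ k.pt) ≫ k.toHom) →
          EtaleLocally (fun U => IsReduced U) Xk'} := by
  obtain ⟨V, b, hbe, hbs⟩ := Y.property.atlas
  have sqP : IsPullback (pullback.fst f.hom b) (pullback.snd f.hom b) f.hom b := IsPullback.of_hasPullback _ _
  obtain ⟨U, r, hre, hrs⟩ :=
    (isAlgSpace_pullback Y.property X.property (IsAlgSpace.yon_obj V) sqP).atlas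
  obtain ⟨h, hh⟩ := (yon S).map_surjective (r ≫ pullback.snd f.hom b)
  have hae : RepWith @Etale (r ≫ pullback.fst f.hom b) := repWith_comp hre (repWith_of_isPullback sqP.flip hbe)
  have w : (r ≫ pullback.fst f.hom b) ≫ f.hom = (yon S).map h ≫ b := by
    rw [Category.assoc, sqP.w, hh, Category.assoc]
  haveI : Flat h.left := hfl _ b h hae hbe w
  haveI : LocallyOfFinitePresentation h.left := hfp _ b h hae hbe w
  let Bad : Set U.left := {u | GRPt h.left u}ᶜ
  have hBad : IsClosed Bad := (S2549.result h.left).isClosed_compl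
  have hsat : Points.ofPt r ⁻¹' (Points.ofPt r '' Bad) = Bad := by
    refine Set.Subset.antisymm ?_ (Set.subset_preimage_image _ _)
    rintro u ⟨u', hu', e⟩
    have sqZ := hre.1.isPullback' r
    obtain ⟨z, hz₁, hz₂⟩ := exists_pt_of_isPullback sqZ (x := Points.ofScheme U u') (t := u)
      (by rw [← Points.ofPt_eq_map_ofScheme]; exact e)
    rw [ofPt_map_eq] at hz₁
    replace hz₁ := (Points.schemeEquiv U).injective hz₁
    haveI : Etale (hre.1.snd r).left := hre.2 r _ _ (hre.1.isPullback r)
    haveI : Etale (hre.1.fst' r).left := hre.2 r _ _ sqZ.flip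
    have hcomp : hre.1.fst' r ≫ h = hre.1.snd r ≫ h := (yon S).map_injective (by
      rw [Functor.map_comp, Functor.map_comp, hh, ← Category.assoc, sqZ.w, Category.assoc])
    intro hu
    refine hu' ?_
    rw [← hz₁]
    rw [← hz₂] at hu
    have h1 := (grPt_etale_comp (hre.1.snd r).left h.left z).2 hu
    rw [← Over.comp_left, ← hcomp, Over.comp_left] at h1
    exact (grPt_etale_comp (hre.1.fst' r).left h.left z).1 h1
  have hBadP : IsClosed (Points.ofPt r '' Bad) := by
    rw [← (isOpenQuotientMap_ofPt hre hrs).isQuotientMap.isClosed_preimage, hsat]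
    exact hBad
  have hclosed : IsClosed (Points.map (pullback.snd f.hom b) '' (Points.ofPt r '' Bad)) :=
    isClosedMap_of_isUnivClosedMor (IsAlgSpace.yon_obj V) (univSp_of_isPullback sqP huc) _ hBadP
  rw [← (isOpenQuotientMap_ofPt hbe hbs).isQuotientMap.isOpen_preimage]
  convert hclosed.isOpen_compl.preimage (Points.continuous_ofPt (𝟙 ((yon S).obj V))) using 1
  ext v
  rw [Set.mem_preimage, Set.mem_setOf_eq, fibre_iff sqP hre hrs hh.symm v, Set.mem_preimage, Set.mem_compl_iff]
  have hv : ∀ u, Points.map (pullback.snd f.hom b) (Points.ofPt r u) = Points.ofPt (𝟙 ((yon S).obj V)) (h.left u) :=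
    fun u => by rw [Points.map_ofPt, ← hh, ← ofPt_map_comp, Category.comp_id]
  constructor
  · rintro H ⟨_, ⟨u, hu, rfl⟩, e⟩
    rw [hv, ← CategoryTheory.Functor.map_id, ofPt_map_eq, ofPt_map_eq] at e
    exact hu (H u ((Points.schemeEquiv V).injective e))
  · intro H u hu
    by_contra hn
    exact H ⟨_, ⟨u, hn, rfl⟩, by rw [hv, hu]⟩

end Groth.Agent.GeomRedOpen27
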